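import Groth.Agent.Lefpen.H397.ConePt
import Groth.Agent.Ega4dA.GenSec

/-!
# Functions on a complete intersection inside the fraction field of the cone ring

`Y = V(G) ⊆ P^N_k` with cone ring `A` a domain, `K = Frac A`.

* `eta : Spec K ⟶ Y`, `rhoK V hV : Γ(Y, V) → K`; `top_le`: defined for every nonempty `V`; `rhoK_injective`.
* `Deg D x`: `x ∈ K` is a fraction of homogeneous elements with difference of degrees `D`; `deg_rhoK`.
* `mem_range_of_pow`: normality.
* `exists_point`: every prime of the cone different from the origin lies over a point of `Y`.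
-/

set_option autoImplicit false
set_option linter.unusedSectionVars false
universe u

open CategoryTheory AlgebraicGeometry Limits TopologicalSpace Opposite MvPolynomial

namespace Groth.Agent.Lefpen.H397.ConeField

open LefPen Groth.Agent.Lefpen.H705.ChartPoly Groth.Agent.Lefpen.H705.HypIdeal
open Groth.Agent.Lefpen.H718.ConeCM Groth.Agent.Lefpen.H718.Grade Groth.Agent.Lefpen.H718.Chart
open Groth.Agent.Sga5 Groth.Agent.Lefpen.H397.ConePt Groth.Agent.Ega4dA.GenSec

variable {k : Type u} [Field k] {N d : ℕ} {a : Fin d → ℕ} (G : ∀ j : Fin d, Form N k (a j))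

/-- The cone ring. -/
abbrev AG : Type u := A (fun i => (G i).1)

/-- The coordinates. -/
noncomputable abbrev T (j : Fin (N + 1)) : AG G := mk (fun i => (G i).1) (X j)

section NoDomain

theorem T_ne_zero_of_mem {j : Fin (N + 1)} {y : Y G} (hy : y ∈ ychart G j) : T G j ≠ 0 := by
  intro h0
  have h1 : (X j : MvPolynomial (Fin (N + 1)) k) ∈ Ideal.span (Set.range fun i => (G i).1) :=
    Ideal.Quotient.eq_zero_iff_mem.1 h0
  have h2 : ProjChart.dehom N k j (X j) ∈ RingHom.ker (toY G j) := by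
    have h3 := Ideal.mem_map_of_mem (ProjChart.dehom N k j) h1
    rw [Ideal.map_span, ← Set.range_comp] at h3
    rw [ker_toY]
    exact h3
  rw [ProjChart.dehom_X_self, RingHom.mem_ker, map_one] at h2
  have h4 : (Y G).basicOpen (1 : Γ(Y G, ychart G j)) = ⊥ := by
    rw [h2, Scheme.basicOpen_zero]
  rw [Scheme.basicOpen_of_isUnit _ isUnit_one] at h4
  rw [h4] at hy
  exact hy


variable {G} in
theorem conePt_congr {B : Type u} [CommRing B] {ψ ψ' : AG G →+* B} (h : ψ = ψ') (j : Fin (N + 1))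
    (hj : IsUnit (psiS G ψ (X j))) (hj' : IsUnit (psiS G ψ' (X j))) : conePt G ψ j hj = conePt G ψ' j hj' := by
  subst h
  rfl

theorem exists_basic (y : Y G) (V : (Y G).Opens) (hy : y ∈ V) :
    ∃ (j : Fin (N + 1)) (_ : T G j ≠ 0) (s : Γ(Y G, ychart G j)), s ≠ 0 ∧ y ∈ (Y G).basicOpen s ∧
      (Y G).basicOpen s ≤ V := by
  obtain ⟨j, hj⟩ : ∃ j, yι G y ∈ chart N k j := by
    have h1 : yι G y ∈ ⨆ j : Fin (N + 1), chart N k j := by
      rw [iSup_chart]; trivial
    exact Opens.mem_iSup.1 h1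
  have hy' : y ∈ ychart G j := hj
  have hT := T_ne_zero_of_mem G hy'
  obtain ⟨s, hs, hys⟩ := (isAffineOpen_ychart G j).exists_basicOpen_le ⟨y, hy⟩ hy'
  refine ⟨j, hT, s, ?_, hys, hs⟩
  rintro rfl
  rw [Scheme.basicOpen_zero] at hys
  exact hys

theorem exists_away {j : Fin (N + 1)} {s : Γ(Y G, ychart G j)} (x : Γ(Y G, (Y G).basicOpen s)) :
    ∃ (n : ℕ) (b : Γ(Y G, ychart G j)), resO (Y G) ((Y G).basicOpen_le s) s ^ n * x =
      resO (Y G) ((Y G).basicOpen_le s) b := by
  have h1 := (isAffineOpen_ychart G j).isLocalization_basicOpen s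
  obtain ⟨⟨b, ⟨_, n, rfl⟩⟩, hb⟩ := IsLocalization.surj (Submonoid.powers s) x
  refine ⟨n, b, ?_⟩
  rw [mul_comm]
  have h2 : resO (Y G) ((Y G).basicOpen_le s) s ^ n = resO (Y G) ((Y G).basicOpen_le s) (s ^ n) :=
    (map_pow ((Y G).presheaf.map (homOfLE ((Y G).basicOpen_le s)).op).hom s n).symm
  rw [h2]
  exact hb

theorem isUnit_resO_basicOpen {U : (Y G).Opens} (s : Γ(Y G, U)) :
    IsUnit (resO (Y G) ((Y G).basicOpen_le s) s) :=
  RingedSpace.isUnit_res_basicOpen _ _


end NoDomain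

variable (K : Type u) [Field K] [Algebra (AG G) K]

/-- The inclusion of the cone ring in its fraction field. -/
noncomputable abbrev incl : AG G →+* K := algebraMap (AG G) K

variable [IsDomain (AG G)] [IsFractionRing (AG G) K]

theorem isUnit_incl {j : Fin (N + 1)} (hj : T G j ≠ 0) : IsUnit (psiS G (incl G K) (X j)) := by
  refine IsUnit.mk0 _ ?_
  change incl G K (T G j) ≠ 0
  rw [Ne, map_eq_zero_iff _ (IsFractionRing.injective (AG G) K)]
  exact hj

theorem chartHom_injective {j : Fin (N + 1)} (hj : T G j ≠ 0) :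
    Function.Injective (chartHom G (incl G K) j (isUnit_incl G K hj)) := by
  rw [injective_iff_map_eq_zero]
  intro x hx
  obtain ⟨D, P, hP, rfl⟩ := exists_form G j x
  have h1 := chartHom_form G (incl G K) j (isUnit_incl G K hj) hP
  rw [hx, zero_mul] at h1
  have h2 : incl G K (mk (fun i => (G i).1) P) = 0 := h1.symm
  rw [map_eq_zero_iff _ (IsFractionRing.injective (AG G) K)] at h2
  have h3 : P ∈ Ideal.span (Set.range fun i => (G i).1) := Ideal.Quotient.eq_zero_iff_mem.1 h2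
  have h4 := Ideal.mem_map_of_mem (ProjChart.dehom N k j) h3
  rw [Ideal.map_span, ← Set.range_comp] at h4
  have h5 : ProjChart.dehom N k j P ∈ RingHom.ker (toY G j) := by
    rw [ker_toY]
    exact h4
  exact h5

section Eta

variable (hne : ∃ j, T G j ≠ 0)

/-- The generic point. -/
noncomputable def eta : Spec (CommRingCat.of (K)) ⟶ Y G :=
  conePt G (incl G K) hne.choose (isUnit_incl G K hne.choose_spec)

theorem eta_eq {j : Fin (N + 1)} (hj : T G j ≠ 0) : eta G K hne = conePt G (incl G K) j (isUnit_incl G K hj) :=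
  conePt_eq _ _ _ _ _ _

/-- The values of functions at the generic point. -/
noncomputable def rhoK (V : (Y G).Opens) (hV : ⊤ ≤ (eta G K hne) ⁻¹ᵁ V) : Γ(Y G, V) →+* K :=
  ((eta G K hne).appLE V ⊤ hV ≫ (Scheme.ΓSpecIso (CommRingCat.of (K))).hom).hom

theorem rhoK_res {V W : (Y G).Opens} (hV : ⊤ ≤ (eta G K hne) ⁻¹ᵁ V) (hW : ⊤ ≤ (eta G K hne) ⁻¹ᵁ W) (h : W ≤ V)
    (x : Γ(Y G, V)) : rhoK G K hne W hW (resO (Y G) h x) = rhoK G K hne V hV x := by
  have h1 := Scheme.Hom.map_appLE (eta G K hne) hW (homOfLE h).op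
  exact congrArg (Scheme.ΓSpecIso (CommRingCat.of (K))).hom congr($h1 x)

theorem top_le_ychart {j : Fin (N + 1)} (hj : T G j ≠ 0) : ⊤ ≤ (eta G K hne) ⁻¹ᵁ (ychart G j) := by
  rw [eta_eq G K hne hj]
  exact le_preimage_ychart _ _ _ _

theorem rhoK_chart {j : Fin (N + 1)} (hj : T G j ≠ 0) (x : Γ(Y G, ychart G j)) :
    rhoK G K hne (ychart G j) (top_le_ychart G K hne hj) x = chartHom G (incl G K) j (isUnit_incl G K hj) x := by
  have h1 : ∀ (e : Spec (CommRingCat.of (K)) ⟶ Y G) (he : e = conePt G (incl G K) j (isUnit_incl G K hj))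
      (h : ⊤ ≤ e ⁻¹ᵁ (ychart G j)), (e.appLE (ychart G j) ⊤ h ≫ (Scheme.ΓSpecIso (CommRingCat.of (K))).hom).hom x =
        chartHom G (incl G K) j (isUnit_incl G K hj) x := by
    rintro e rfl h
    rw [conePt_appLE, Category.assoc, Iso.inv_hom_id, Category.comp_id]
    rfl
  exact h1 _ (eta_eq G K hne hj) _

theorem rhoK_form {j : Fin (N + 1)} (hj : T G j ≠ 0) {D : ℕ} {P : MvPolynomial (Fin (N + 1)) k}
    (hP : P.IsHomogeneous D) :
    rhoK G K hne (ychart G j) (top_le_ychart G K hne hj) (toY G j (ProjChart.dehom N k j P)) * incl G K (T G j) ^ D =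
      incl G K (mk (fun i => (G i).1) P) := by
  rw [rhoK_chart G K hne hj]
  exact chartHom_form G (incl G K) j (isUnit_incl G K hj) hP

theorem top_le_basicOpen {j : Fin (N + 1)} (hj : T G j ≠ 0) {s : Γ(Y G, ychart G j)} (hs : s ≠ 0) :
    ⊤ ≤ (eta G K hne) ⁻¹ᵁ ((Y G).basicOpen s) := by
  have h1 := Scheme.Hom.preimage_basicOpen (eta G K hne) s
  rw [h1]
  have h2 : (eta G K hne) ⁻¹ᵁ (ychart G j) = ⊤ := top_le_iff.1 (top_le_ychart G K hne hj)
  have h3 : IsUnit ((eta G K hne).app (ychart G j) s) := by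
    have h4 : rhoK G K hne (ychart G j) (top_le_ychart G K hne hj) s ≠ 0 := by
      rw [rhoK_chart G K hne hj, Ne, map_eq_zero_iff _ (chartHom_injective G K hj)]
      exact hs
    have h5 : IsUnit ((Scheme.ΓSpecIso (CommRingCat.of (K))).hom.hom
      (((eta G K hne).appLE (ychart G j) ⊤ (top_le_ychart G K hne hj)).hom s)) := IsUnit.mk0 _ h4
    have h6 : IsUnit (((eta G K hne).appLE (ychart G j) ⊤ (top_le_ychart G K hne hj)).hom s) := by
      have := h5.map (Scheme.ΓSpecIso (CommRingCat.of (K))).inv.hom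
      rwa [← CommRingCat.comp_apply, Iso.hom_inv_id, CommRingCat.id_apply] at this
    have h7 : ∀ (W : (Spec (CommRingCat.of (K))).Opens) (hW : W = ⊤) (e : W ≤ (eta G K hne) ⁻¹ᵁ (ychart G j)),
        IsUnit (((eta G K hne).appLE (ychart G j) W e).hom s) := by
      rintro W rfl e
      exact h6
    have h8 := h7 _ h2 le_rfl
    rwa [← Scheme.Hom.app_eq_appLE] at h8
  rw [Scheme.basicOpen_of_isUnit _ h3, h2]



theorem rhoK_injective (V : (Y G).Opens) (hV : ⊤ ≤ (eta G K hne) ⁻¹ᵁ V) :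
    Function.Injective (rhoK G K hne V hV) := by
  rw [injective_iff_map_eq_zero]
  intro x hx
  refine eqO_of_locally fun y hy => ?_
  obtain ⟨j, hj, s, hs, hys, hsV⟩ := exists_basic G y V hy
  refine ⟨_, hsV, hys, ?_⟩
  obtain ⟨n, b, hb⟩ := exists_away G (resO (Y G) hsV x)
  have h1 := top_le_basicOpen G K hne hj hs
  have h2 := congrArg (rhoK G K hne _ h1) hb
  rw [map_mul, rhoK_res G K hne hV h1 hsV, hx, mul_zero, rhoK_res G K hne (top_le_ychart G K hne hj) h1,
    rhoK_chart G K hne hj] at h2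
  have h3 : b = 0 := chartHom_injective G K hj (by rw [← h2, map_zero])
  rw [h3, resO_zero] at hb
  rw [resO_zero]
  exact ((isUnit_resO_basicOpen G s).pow n).mul_right_eq_zero.1 hb

end Eta

section Deg

variable (hh : ∀ i, ((G i).1).IsHomogeneous (a i))
variable {K}

/-- Quotients of homogeneous elements with difference of degrees `D`. -/
def Deg (D : ℕ) (x : K) : Prop :=
  ∃ (E : ℕ) (P Q : AG G), Homog (fun i => (G i).1) hh (E + D) P ∧ Homog (fun i => (G i).1) hh E Q ∧ Q ≠ 0 ∧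
    x * incl G K Q = incl G K P

variable {G hh}

theorem incl_ne_zero {Q : AG G} (hQ : Q ≠ 0) : incl G K Q ≠ 0 := by
  rw [Ne, map_eq_zero_iff _ (IsFractionRing.injective (AG G) K)]
  exact hQ

theorem Deg.mul {D D' : ℕ} {x y : K} (hx : Deg G hh D x) (hy : Deg G hh D' y) : Deg G hh (D + D') (x * y) := by
  obtain ⟨E, P, Q, hP, hQ, hQ0, h⟩ := hx
  obtain ⟨E', P', Q', hP', hQ', hQ0', h'⟩ := hy
  refine ⟨E + E', P * P', Q * Q', ?_, hQ.mul _ hh hQ', mul_ne_zero hQ0 hQ0', ?_⟩
  · have := hP.mul _ hh hP'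
    rwa [show E + D + (E' + D') = E + E' + (D + D') by ring] at this
  · rw [map_mul, map_mul, ← h, ← h']
    ring

theorem Deg.inv {x : K} (hx : Deg G hh 0 x) (hx0 : x ≠ 0) : Deg G hh 0 x⁻¹ := by
  obtain ⟨E, P, Q, hP, hQ, hQ0, h⟩ := hx
  refine ⟨E, Q, P, hQ, hP, ?_, ?_⟩
  · rintro rfl
    rw [map_zero] at h
    exact mul_ne_zero hx0 (incl_ne_zero hQ0) h
  · rw [← h, inv_mul_cancel_left₀ hx0]

theorem deg_incl {D : ℕ} {P : AG G} (hP : Homog (fun i => (G i).1) hh D P) : Deg G hh D (incl G K P) :=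
  ⟨0, P, 1, by rwa [zero_add], homog_one _ hh, one_ne_zero, by rw [map_one, mul_one]⟩

theorem deg_one : Deg G hh 0 (1 : K) := by
  have := deg_incl (K := K) (G := G) (hh := hh) (homog_one _ hh)
  rwa [map_one] at this

theorem Deg.pow {x : K} (hx : Deg G hh 0 x) (n : ℕ) : Deg G hh 0 (x ^ n) := by
  induction n with
  | zero => rw [pow_zero]; exact deg_one
  | succ n ih =>
    have h := ih.mul hx
    rwa [zero_add, ← pow_succ] at h

theorem Deg.homog {D : ℕ} {b : AG G} (hb : Deg G hh D (incl G K b)) : Homog (fun i => (G i).1) hh D b := by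
  obtain ⟨E, P, Q, hP, hQ, hQ0, h⟩ := hb
  rw [← map_mul] at h
  have h1 : b * Q = P := IsFractionRing.injective (AG G) K h
  rw [Homog] at hP hQ ⊢
  have h2 := congrArg (delta (fun i => (G i).1) hh) h1
  rw [map_mul, hP, hQ, ← h1, map_mul] at h2
  have h3 : (Polynomial.C Q * Polynomial.X ^ E : Polynomial (AG G)) ≠ 0 :=
    mul_ne_zero (Polynomial.C_ne_zero.2 hQ0) (pow_ne_zero _ Polynomial.X_ne_zero)
  apply mul_right_cancel₀ h3
  rw [h2, pow_add]
  ring

variable (hne : ∃ j, T G j ≠ 0)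

theorem homog_T (j : Fin (N + 1)) : Homog (fun i => (G i).1) hh 1 (T G j) := homog_mk _ hh (isHomogeneous_X k j)

theorem homog_T_pow (j : Fin (N + 1)) (D : ℕ) : Homog (fun i => (G i).1) hh D (T G j ^ D) := by
  have := (homog_T (G := G) (hh := hh) j).pow _ hh D
  rwa [mul_one] at this

theorem deg_chart {j : Fin (N + 1)} (hj : T G j ≠ 0) (x : Γ(Y G, ychart G j)) :
    Deg G hh 0 (rhoK G K hne (ychart G j) (top_le_ychart G K hne hj) x) := by
  obtain ⟨D, P, hP, rfl⟩ := exists_form G j x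
  refine ⟨D, mk _ P, T G j ^ D, homog_mk _ hh hP, homog_T_pow j D, pow_ne_zero _ hj, ?_⟩
  rw [map_pow]
  exact rhoK_form G K hne hj hP

/-- The values of functions are of degree zero. -/
theorem deg_rhoK (V : (Y G).Opens) (hV : ⊤ ≤ (eta G K hne) ⁻¹ᵁ V) (x : Γ(Y G, V)) :
    Deg G hh 0 (rhoK G K hne V hV x) := by
  obtain ⟨z⟩ : Nonempty (Spec (CommRingCat.of (K))) := inferInstance
  obtain ⟨j, hj, s, hs, hys, hsV⟩ := exists_basic G (eta G K hne z) V (hV (Set.mem_univ z))
  have h1 := top_le_basicOpen G K hne hj hs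
  obtain ⟨n, b, hb⟩ := exists_away G (resO (Y G) hsV x)
  have h2 := congrArg (rhoK G K hne _ h1) hb
  rw [map_mul, map_pow, rhoK_res G K hne hV h1 hsV, rhoK_res G K hne (top_le_ychart G K hne hj) h1,
    rhoK_res G K hne (top_le_ychart G K hne hj) h1] at h2
  have h3 : rhoK G K hne (ychart G j) (top_le_ychart G K hne hj) s ≠ 0 := by
    rw [rhoK_chart G K hne hj, Ne, map_eq_zero_iff _ (chartHom_injective G K hj)]
    exact hs
  have h4 : rhoK G K hne V hV x = (rhoK G K hne (ychart G j) (top_le_ychart G K hne hj) s ^ n)⁻¹ *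
      rhoK G K hne (ychart G j) (top_le_ychart G K hne hj) b := by
    rw [← h2, inv_mul_cancel_left₀ (pow_ne_zero _ h3)]
  rw [h4]
  have h5 := (((deg_chart (hh := hh) hne hj s).pow n).inv (pow_ne_zero _ h3)).mul (deg_chart hne hj b)
  rwa [zero_add] at h5

/-- Normality of the cone ring: a fraction of degree zero with a power regular on a basic open is regular. -/
theorem mem_range_of_pow [IsIntegrallyClosed (AG G)] {j : Fin (N + 1)} (hj : T G j ≠ 0) (s : Γ(Y G, ychart G j))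
    (hV : ⊤ ≤ (eta G K hne) ⁻¹ᵁ ((Y G).basicOpen s)) {m : ℕ} (hm : 1 ≤ m) {x : K} (hx : Deg G hh 0 x)
    (h : x ^ m ∈ Set.range (rhoK G K hne ((Y G).basicOpen s) hV)) :
    x ∈ Set.range (rhoK G K hne ((Y G).basicOpen s) hV) := by
  obtain ⟨u, hu⟩ := h
  obtain ⟨n, b, hb⟩ := exists_away G u
  obtain ⟨D, P, hP, hbP⟩ := exists_form G j (b * s ^ (n * (m - 1)))
  set ρs := rhoK G K hne (ychart G j) (top_le_ychart G K hne hj) s with hρs
  set t := incl G K (T G j) with ht
  have ht0 : t ≠ 0 := incl_ne_zero hj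
  have h2 := congrArg (rhoK G K hne _ hV) hb
  rw [map_mul, map_pow, hu, rhoK_res G K hne (top_le_ychart G K hne hj) hV,
    rhoK_res G K hne (top_le_ychart G K hne hj) hV, ← hρs] at h2
  have h3 := rhoK_form G K hne hj hP
  rw [hbP, map_mul, map_pow, ← h2, ← hρs, ← ht] at h3
  -- the integral element
  have h4 : (x * ρs ^ n * t ^ D) ^ m = incl G K (mk _ P * T G j ^ (D * (m - 1))) := by
    rw [map_mul, map_pow, ← h3, ← ht]
    obtain ⟨m', rfl⟩ : ∃ m', m = m' + 1 := ⟨m - 1, by omega⟩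
    rw [Nat.add_sub_cancel]
    ring
  obtain ⟨y, hy⟩ := IsIntegrallyClosed.exists_algebraMap_eq_of_isIntegral_pow (R := AG G) (K := K)
    (x := x * ρs ^ n * t ^ D) (n := m) hm (by rw [h4]; exact isIntegral_algebraMap)
  have hdeg : Deg G hh D (incl G K y) := by
    have h5 : Deg G hh (0 + 0 + D) (x * ρs ^ n * t ^ D) := by
      refine (hx.mul ((deg_chart hne hj s).pow n)).mul ?_
      rw [ht, ← map_pow]
      exact deg_incl (homog_T_pow j D)
    rw [zero_add, zero_add, ← hy] at h5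
    exact h5
  obtain ⟨Q, hQ, hQy⟩ := (homog_iff _ hh).1 hdeg.homog
  have h6 := rhoK_form G K hne hj hQ
  rw [hQy] at h6
  have h7 : x * ρs ^ n = rhoK G K hne (ychart G j) (top_le_ychart G K hne hj) (toY G j (ProjChart.dehom N k j Q)) := by
    apply mul_right_cancel₀ (pow_ne_zero D ht0)
    rw [h6]
    exact hy.symm
  obtain ⟨v, hv⟩ := isUnit_resO_basicOpen G s
  refine ⟨resO (Y G) ((Y G).basicOpen_le s) (toY G j (ProjChart.dehom N k j Q)) * (v⁻¹).1 ^ n, ?_⟩
  rw [map_mul, map_pow, rhoK_res G K hne (top_le_ychart G K hne hj) hV, ← h7]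
  have h8 : ρs * rhoK G K hne _ hV (v⁻¹).1 = 1 := by
    have h9 : ρs = rhoK G K hne _ hV v.1 := by
      rw [hv, rhoK_res G K hne (top_le_ychart G K hne hj) hV]
    rw [h9, ← map_mul, Units.mul_inv, map_one]
  rw [mul_assoc, ← mul_pow, h8, one_pow, mul_one]

end Deg

section Point

/-- Every prime of the cone which is not the origin lies over a point of `Y`. -/
theorem exists_point (hne : ∃ j, T G j ≠ 0) (q : Ideal (AG G)) [q.IsPrime] (j : Fin (N + 1)) (hj : T G j ∉ q) :
    ∃ y : Y G, y ∈ ychart G j ∧ ∀ (V : (Y G).Opens), y ∈ V → ∀ (hV : ⊤ ≤ (eta G K hne) ⁻¹ᵁ V) (u : Γ(Y G, V)), IsUnit u →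
      ∃ v s : AG G, v ∉ q ∧ s ∉ q ∧ rhoK G K hne V hV u * incl G K s = incl G K v := by
  have hjq : IsUnit (psiS (B := Localization.AtPrime q) G (algebraMap (AG G) (Localization.AtPrime q)) (X j)) := by
    have h0 : IsUnit (algebraMap (AG G) (Localization.AtPrime q) (T G j)) :=
      IsLocalization.map_units (M := q.primeCompl) (Localization.AtPrime q) ⟨T G j, hj⟩
    exact h0
  have hj0 : T G j ≠ 0 := fun h0 => hj (by rw [h0]; exact q.zero_mem)
  have hχ : ∀ y : q.primeCompl, IsUnit (incl G K y) := fun y =>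
    IsUnit.mk0 _ (incl_ne_zero fun h0 => y.2 (by rw [h0]; exact q.zero_mem))
  let χ : Localization.AtPrime q →+* K := IsLocalization.lift (M := q.primeCompl) hχ
  have hχ1 : χ.comp (algebraMap (AG G) (Localization.AtPrime q)) = incl G K := IsLocalization.lift_comp hχ
  have hjχ : IsUnit (psiS G (χ.comp (algebraMap (AG G) (Localization.AtPrime q))) (X j)) := by
    rw [hχ1]
    exact isUnit_incl G K hj0
  set π := conePt (B := Localization.AtPrime q) G (algebraMap (AG G) (Localization.AtPrime q)) j hjq with hπ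
  have hη : eta G K hne = Spec.map (CommRingCat.ofHom χ) ≫ π := by
    rw [hπ, conePt_map G _ j hjq χ hjχ, eta_eq G K hne hj0]
    exact conePt_congr hχ1.symm j _ _
  have hU : ∀ V : (Y G).Opens, π (IsLocalRing.closedPoint (Localization.AtPrime q)) ∈ V → ⊤ ≤ π ⁻¹ᵁ V := by
    intro V hV
    rw [top_le_iff]
    exact (IsLocalRing.closedPoint_mem_iff _).1 hV
  refine ⟨π (IsLocalRing.closedPoint (Localization.AtPrime q)), le_preimage_ychart G _ j hjq (Set.mem_univ _), ?_⟩
  intro V hyV hV u hu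
  have h1 := hU V hyV
  have h2 : (eta G K hne).appLE V ⊤ hV = π.appLE V ⊤ h1 ≫ (Spec.map (CommRingCat.ofHom χ)).appTop := by
    have h3 : ∀ (e : Spec (CommRingCat.of (K)) ⟶ Y G) (_ : e = Spec.map (CommRingCat.ofHom χ) ≫ π)
      (h : ⊤ ≤ e ⁻¹ᵁ V), e.appLE V ⊤ h = π.appLE V ⊤ h1 ≫ (Spec.map (CommRingCat.ofHom χ)).appTop := by
      rintro e rfl h
      have h4 := Scheme.Hom.appLE_comp_appLE (Spec.map (CommRingCat.ofHom χ)) π V ⊤ ⊤ h1 le_top
      rw [← h4]
      rfl
    exact h3 _ hη hV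
  let w : Localization.AtPrime q := (Scheme.ΓSpecIso (CommRingCat.of (Localization.AtPrime q))).hom.hom
    ((π.appLE V ⊤ h1).hom u)
  have hw : IsUnit w := (hu.map (π.appLE V ⊤ h1).hom).map
    (Scheme.ΓSpecIso (CommRingCat.of (Localization.AtPrime q))).hom.hom
  have hwχ : rhoK G K hne V hV u = χ w := by
    have h5 := Scheme.ΓSpecIso_naturality
      (CommRingCat.ofHom (R := Localization.AtPrime q) (S := K) χ)
    have h6 := congr($(h5).hom ((π.appLE V ⊤ h1).hom u))
    rw [rhoK, h2, Category.assoc]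
    exact h6
  obtain ⟨v, s, hvs⟩ := IsLocalization.exists_mk'_eq q.primeCompl w
  refine ⟨v, s, ?_, s.2, ?_⟩
  · have h7 := (IsLocalization.AtPrime.isUnit_mk'_iff (Localization.AtPrime q) q v s).1 (by rw [hvs]; exact hw)
    exact h7
  · rw [hwχ, ← hvs]
    have h8 : χ (algebraMap _ _ (s : AG G)) = incl G K s := IsLocalization.lift_eq hχ _
    have h9 : χ (algebraMap _ _ v) = incl G K v := IsLocalization.lift_eq hχ _
    rw [← h8, ← h9, ← map_mul, IsLocalization.mk'_spec]

end Point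

end Groth.Agent.Lefpen.H397.ConeField
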