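import Groth.Agent.Lefpen.H718.Chart
import Groth.Agent.Lefpen.H718.Grade

/-!
# Points of a complete intersection with values in algebras over the cone ring

`Y = V(G) ⊆ P^N_k`, `A = k[T_0..T_N] / (G)`. A ring homomorphism `ψ : A → B` with `ψ T_j` invertible gives
`conePt ψ j : Spec B ⟶ Y`, given by `chartHom ψ j : Γ(Y, Y ∩ D_+(T_j)) → B`, `P / T_j ^ D ↦ ψ P / ψ T_j ^ D`.

* `conePt_eq`: independence of `j`.
* `conePt_map`: functoriality in `B`.
-/

set_option autoImplicit false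
universe u

open CategoryTheory AlgebraicGeometry Limits TopologicalSpace Opposite MvPolynomial

namespace Groth.Agent.Lefpen.H397.ConePt

open LefPen Groth.Agent.Lefpen.H705.ChartPoly Groth.Agent.Lefpen.H705.HypIdeal
open Groth.Agent.Lefpen.H718.ConeCM Groth.Agent.Lefpen.H718.Grade Groth.Agent.Lefpen.H718.Chart
open Groth.Agent.Sga5

section General

theorem hom_ext_affine {B : CommRingCat.{u}} {X : Scheme.{u}} {f h : Spec B ⟶ X} {U : X.Opens} (hU : IsAffineOpen U)
    (hf : ⊤ ≤ f ⁻¹ᵁ U) (hh : ⊤ ≤ h ⁻¹ᵁ U) (e : f.appLE U ⊤ hf = h.appLE U ⊤ hh) : f = h := by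
  have h1 := hU.SpecMap_appLE_fromSpec f (isAffineOpen_top (Spec B)) hf
  have h2 := hU.SpecMap_appLE_fromSpec h (isAffineOpen_top (Spec B)) hh
  rw [e] at h1
  have h3 : (isAffineOpen_top (Spec B)).fromSpec ≫ f = (isAffineOpen_top (Spec B)).fromSpec ≫ h := h1.symm.trans h2
  rw [IsAffineOpen.fromSpec_top] at h3
  exact (cancel_epi _).1 h3

theorem specMap_fromSpec_le {B : CommRingCat.{u}} {X : Scheme.{u}} {U : X.Opens} (hU : IsAffineOpen U)
    (φ : Γ(X, U) ⟶ B) : ⊤ ≤ (Spec.map φ ≫ hU.fromSpec) ⁻¹ᵁ U := by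
  rw [Scheme.Hom.comp_preimage, hU.fromSpec_preimage_self]
  exact le_rfl

theorem specMap_fromSpec_appLE {B : CommRingCat.{u}} {X : Scheme.{u}} {U : X.Opens} (hU : IsAffineOpen U)
    (φ : Γ(X, U) ⟶ B) :
    (Spec.map φ ≫ hU.fromSpec).appLE U ⊤ (specMap_fromSpec_le hU φ) = φ ≫ (Scheme.ΓSpecIso B).inv := by
  have h1 := Scheme.Hom.appLE_comp_appLE (Spec.map φ) hU.fromSpec U ⊤ ⊤ (by rw [hU.fromSpec_preimage_self])
    (by exact le_top)
  refine h1.symm.trans ?_
  have h2 : hU.fromSpec.appLE U ⊤ (by rw [hU.fromSpec_preimage_self]) = (Scheme.ΓSpecIso Γ(X, U)).inv := by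
    rw [Scheme.Hom.appLE, hU.fromSpec_app_self, Category.assoc, ← Functor.map_comp]
    refine Eq.trans (congrArg _ (congrArg _ (Subsingleton.elim _ (𝟙 _)))) ?_
    rw [CategoryTheory.Functor.map_id, Category.comp_id]
  rw [h2]
  have h3 := Scheme.ΓSpecIso_inv_naturality φ
  rw [h3]
  rfl

end General

section Hom

variable {k : Type u} [Field k] {N d : ℕ} {a : Fin d → ℕ} (G : ∀ j : Fin d, Form N k (a j))
variable {B : Type u} [CommRing B] (ψ : A (fun i => (G i).1) →+* B)

/-- The composite `k[T] → A → B`. -/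
noncomputable abbrev psiS : MvPolynomial (Fin (N + 1)) k →+* B := ψ.comp (mk (fun i => (G i).1))

theorem psiS_form (i : Fin d) : psiS G ψ (G i).1 = 0 := by
  have h0 : mk (fun i => (G i).1) (G i).1 = 0 := Ideal.Quotient.eq_zero_iff_mem.2 (Ideal.subset_span ⟨i, rfl⟩)
  rw [psiS, RingHom.comp_apply, h0, map_zero]

/-- `(S_f)_0 → B`. -/
noncomputable def awayHom {f : MvPolynomial (Fin (N + 1)) k} (hf : IsUnit (psiS G ψ f)) :
    HomogeneousLocalization.Away (CohB1.polyGrading N k) f →+* B :=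
  (IsLocalization.Away.lift (S := Localization.Away f) f hf).comp
    (algebraMap (HomogeneousLocalization.Away (CohB1.polyGrading N k) f) (Localization.Away f))

theorem awayHom_apply {f : MvPolynomial (Fin (N + 1)) k} (hf : IsUnit (psiS G ψ f))
    (z : HomogeneousLocalization.Away (CohB1.polyGrading N k) f) :
    awayHom G ψ hf z = IsLocalization.Away.lift (S := Localization.Away f) f hf z.val := rfl

theorem awayHom_awayMap {e : ℕ} {f h x : MvPolynomial (Fin (N + 1)) k} (hf : IsUnit (psiS G ψ f))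
    (hh : h ∈ CohB1.polyGrading N k e) (hx : x = f * h) (hx' : IsUnit (psiS G ψ x)) :
    (awayHom G ψ hx').comp (HomogeneousLocalization.awayMap (CohB1.polyGrading N k) hh hx) = awayHom G ψ hf := by
  ext z
  rw [RingHom.comp_apply, awayHom_apply, awayHom_apply, HomogeneousLocalization.val_awayMap]
  rw [← RingHom.comp_apply]
  congr 1
  apply IsLocalization.ringHom_ext (M := .powers f)
  refine RingHom.ext fun t => ?_
  rw [RingHom.comp_apply, RingHom.comp_apply, RingHom.comp_apply, IsLocalization.Away.lift_eq]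
  exact (IsLocalization.Away.lift_eq _ _ _).trans (IsLocalization.Away.lift_eq _ _ _).symm

variable (j : Fin (N + 1)) (hj : IsUnit (psiS G ψ (X j)))

/-- Polynomials in the affine coordinates as elements of `B`. -/
noncomputable def polyHom : MvPolynomial (Fin N) k →+* B := (awayHom G ψ hj).comp (ProjChart.ofPoly N k j)

theorem polyHom_dehom {D : ℕ} {P : MvPolynomial (Fin (N + 1)) k} (hP : P.IsHomogeneous D) :
    polyHom G ψ j hj (ProjChart.dehom N k j P) * psiS G ψ (X j) ^ D = psiS G ψ P := by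
  have h := congrArg (IsLocalization.Away.lift (S := Localization.Away (X j : MvPolynomial (Fin (N + 1)) k)) (X j) hj)
    (ProjChart.val_ofPoly_dehom N k j D P hP)
  rw [map_mul, ProjChart.aM, IsLocalization.Away.lift_eq, IsLocalization.Away.lift_eq, map_pow] at h
  exact h

theorem exists_dehom (p : MvPolynomial (Fin N) k) :
    ∃ (D : ℕ) (P : MvPolynomial (Fin (N + 1)) k), P.IsHomogeneous D ∧ ProjChart.dehom N k j P = p := by
  obtain ⟨D, P, hP, h⟩ := HomogeneousLocalization.Away.mk_surjective _ (ProjChart.X_mem N k j)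
    (ProjChart.ofPoly N k j p)
  have hP' : P.IsHomogeneous D := by simpa using hP
  refine ⟨D, P, hP', ?_⟩
  apply (ProjChart.chartEquiv N k j).injective
  change ProjChart.ofPoly N k j _ = ProjChart.ofPoly N k j p
  rw [← h]
  exact ofPoly_dehom (⟨P, hP'⟩ : Form N k D) j

theorem polyHom_ker : RingHom.ker (toY G j) ≤ RingHom.ker (polyHom G ψ j hj) := by
  rw [ker_toY, Ideal.span_le]
  rintro _ ⟨i, rfl⟩
  change polyHom G ψ j hj _ = 0
  have h := polyHom_dehom G ψ j hj (G i).2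
  rw [psiS_form] at h
  exact (hj.pow _).mul_left_eq_zero.1 h

/-- `Γ(Y, Y ∩ D_+(T_j)) → B`. -/
noncomputable def chartHom : Γ(Y G, ychart G j) →+* B :=
  (toY G j).liftOfSurjective (toY_surjective G j) ⟨polyHom G ψ j hj, polyHom_ker G ψ j hj⟩

theorem chartHom_toY (p : MvPolynomial (Fin N) k) : chartHom G ψ j hj (toY G j p) = polyHom G ψ j hj p :=
  RingHom.liftOfRightInverse_comp_apply _ _ _ _ _

theorem chartHom_form {D : ℕ} {P : MvPolynomial (Fin (N + 1)) k} (hP : P.IsHomogeneous D) :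
    chartHom G ψ j hj (toY G j (ProjChart.dehom N k j P)) * psiS G ψ (X j) ^ D = psiS G ψ P := by
  rw [chartHom_toY, polyHom_dehom _ _ _ _ hP]

theorem exists_form (x : Γ(Y G, ychart G j)) : ∃ (D : ℕ) (P : MvPolynomial (Fin (N + 1)) k), P.IsHomogeneous D ∧
    toY G j (ProjChart.dehom N k j P) = x := by
  obtain ⟨p, rfl⟩ := toY_surjective G j x
  obtain ⟨D, P, hP, rfl⟩ := exists_dehom j p
  exact ⟨D, P, hP, rfl⟩

/-- The point of `Y`. -/
noncomputable def conePt : Spec (CommRingCat.of B) ⟶ Y G :=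
  Spec.map (CommRingCat.ofHom (chartHom G ψ j hj)) ≫ (isAffineOpen_ychart G j).fromSpec

theorem le_preimage_ychart : ⊤ ≤ (conePt G ψ j hj) ⁻¹ᵁ (ychart G j) := specMap_fromSpec_le _ _

theorem conePt_appLE : (conePt G ψ j hj).appLE (ychart G j) ⊤ (le_preimage_ychart G ψ j hj) =
    CommRingCat.ofHom (chartHom G ψ j hj) ≫ (Scheme.ΓSpecIso (CommRingCat.of B)).inv := specMap_fromSpec_appLE _ _

theorem conePt_comp_yι : conePt G ψ j hj ≫ yι G = Spec.map (CommRingCat.ofHom (awayHom G ψ hj)) ≫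
    Proj.awayι (CohB1.polyGrading N k) (X j) (LefPen.X_mem N k j) Nat.one_pos := by
  have e1 : (⊤ : (Spec (CommRingCat.of (HomogeneousLocalization.Away (CohB1.polyGrading N k)
      (MvPolynomial.X j)))).Opens) ≤
      (Proj.awayι (CohB1.polyGrading N k) (MvPolynomial.X j) (LefPen.X_mem N k j) Nat.one_pos) ⁻¹ᵁ
        (Proj.basicOpen (CohB1.polyGrading N k) (MvPolynomial.X j)) := by
    rw [← Proj.opensRange_awayι (CohB1.polyGrading N k) _ (LefPen.X_mem N k j) Nat.one_pos,
          Scheme.Hom.preimage_opensRange]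
  have e2 : ⊤ ≤ (conePt G ψ j hj ≫ yι G) ⁻¹ᵁ (LefPen.chart N k j) := le_preimage_ychart G ψ j hj
  have e3 : ⊤ ≤ (Spec.map (CommRingCat.ofHom (awayHom G ψ hj)) ≫
      Proj.awayι (CohB1.polyGrading N k) (X j) (LefPen.X_mem N k j) Nat.one_pos) ⁻¹ᵁ (LefPen.chart N k j) :=
    (Spec.map (CommRingCat.ofHom (awayHom G ψ hj))).preimage_mono e1
  refine hom_ext_affine (isAffineOpen_chart j) e2 e3 ?_
  have h1 := awayToSection_awayι (CohB1.polyGrading N k) (LefPen.X_mem N k j) Nat.one_pos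
  have h2 := Scheme.Hom.appLE_comp_appLE (conePt G ψ j hj) (yι G) (LefPen.chart N k j) (ychart G j) ⊤
    le_rfl (le_preimage_ychart G ψ j hj)
  have h3 := Scheme.Hom.appLE_comp_appLE (Spec.map (CommRingCat.ofHom (awayHom G ψ hj)))
    (Proj.awayι (CohB1.polyGrading N k) (MvPolynomial.X j) (LefPen.X_mem N k j) Nat.one_pos)
    (LefPen.chart N k j) ⊤ ⊤ e1 le_top
  refine h2.symm.trans (Eq.trans ?_ h3)
  ext1
  apply RingHom.ext
  intro x
  obtain ⟨p, rfl⟩ := (polyToChart_bijective j).2 x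
  have h4 := congr($(h1).hom (ProjChart.ofPoly N k j p))
  rw [conePt_appLE, ← Scheme.Hom.app_eq_appLE]
  have h5 : ((Proj.awayι (CohB1.polyGrading N k) (MvPolynomial.X j) (LefPen.X_mem N k j) Nat.one_pos).appLE
    (LefPen.chart N k j) ⊤ e1).hom (polyToChart j p) =
      (Scheme.ΓSpecIso (CommRingCat.of (HomogeneousLocalization.Away (CohB1.polyGrading N k)
        (MvPolynomial.X j)))).inv.hom (ProjChart.ofPoly N k j p) := h4
  change (Scheme.ΓSpecIso (CommRingCat.of B)).inv.hom (chartHom G ψ j hj (toY G j p)) =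
    ((Spec.map (CommRingCat.ofHom (awayHom G ψ hj))).appLE ⊤ ⊤ le_top).hom
      (((Proj.awayι (CohB1.polyGrading N k) (MvPolynomial.X j) (LefPen.X_mem N k j) Nat.one_pos).appLE
    (LefPen.chart N k j) ⊤ e1).hom (polyToChart j p))
  rw [h5, chartHom_toY]
  have h6 := congr($(Scheme.ΓSpecIso_inv_naturality (CommRingCat.ofHom (awayHom G ψ hj))).hom
    (ProjChart.ofPoly N k j p))
  exact h6

/-- The point does not depend on the chart. -/
theorem conePt_eq (i : Fin (N + 1)) (hi : IsUnit (psiS G ψ (X i))) : conePt G ψ i hi = conePt G ψ j hj := by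
  rw [← cancel_mono (yι G), conePt_comp_yι, conePt_comp_yι]
  have hij : IsUnit (psiS G ψ (X i * X j)) := by
    rw [map_mul]; exact hi.mul hj
  have h1 := Proj.SpecMap_awayMap_awayι (𝒜 := CohB1.polyGrading N k) (LefPen.X_mem N k i) Nat.one_pos
    (LefPen.X_mem N k j) (x := X i * X j) rfl
  have h2 := Proj.SpecMap_awayMap_awayι (𝒜 := CohB1.polyGrading N k) (LefPen.X_mem N k j) Nat.one_pos
    (LefPen.X_mem N k i) (x := X i * X j) (mul_comm _ _)
  rw [← awayHom_awayMap G ψ hi (LefPen.X_mem N k j) (x := X i * X j) rfl hij,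
    ← awayHom_awayMap G ψ hj (LefPen.X_mem N k i) (x := X i * X j) (mul_comm _ _) hij,
    CommRingCat.ofHom_comp, CommRingCat.ofHom_comp, Spec.map_comp, Spec.map_comp, Category.assoc, Category.assoc,
    h1, h2]

/-- Functoriality. -/
theorem conePt_map {B' : Type u} [CommRing B'] (χ : B →+* B') (hj' : IsUnit (psiS G (χ.comp ψ) (X j))) :
    Spec.map (CommRingCat.ofHom χ) ≫ conePt G ψ j hj = conePt G (χ.comp ψ) j hj' := by
  rw [conePt, conePt, ← Category.assoc, ← Spec.map_comp, ← CommRingCat.ofHom_comp]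
  congr 3
  apply RingHom.ext
  intro x
  obtain ⟨D, P, hP, rfl⟩ := exists_form G j x
  refine (hj'.pow D).mul_right_cancel ?_
  rw [chartHom_form _ _ _ _ hP, RingHom.comp_apply]
  have h1 : psiS G (χ.comp ψ) (X j) ^ D = χ (psiS G ψ (X j) ^ D) := by rw [map_pow]; rfl
  rw [h1, ← map_mul, chartHom_form _ _ _ _ hP]
  rfl

end Hom

end Groth.Agent.Lefpen.H397.ConePt
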