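import Groth.Agent.Lefpen.H397.TwistGen
import Groth.Agent.Lefpen.H718.Frame
import Groth.Agent.Lefpen.H718.JacCI
import Groth.Agent.Smoothlim.PowSec

/-!
# Roots in the Picard group of a complete intersection from roots in the cone ring

`Y = V(G) ⊆ P^{n+d}_k` a smooth complete intersection of dimension `n ≥ 2` such that every homogeneous element of the
cone ring which is locally an `m`-th power away from the origin is an `m`-th power.

* `pic_of_root`: `L^{⊗ m} ≅ O_Y` implies `L ≅ O_Y`.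
* `not_of_root`: `O_Y(1)` is not an `m`-th power for `m ≥ 2`.
-/

set_option autoImplicit false
set_option linter.unusedSectionVars false
universe u

open CategoryTheory AlgebraicGeometry Limits TopologicalSpace Opposite MvPolynomial

namespace Groth.Agent.Lefpen.H397.PicRoot

open LefPen Groth.Agent.Lefpen.H705.ChartPoly Groth.Agent.Lefpen.H705.HypIdeal
open Groth.Agent.Lefpen.H718.ConeCM Groth.Agent.Lefpen.H718.Grade Groth.Agent.Lefpen.H718.Chart
open Groth.Agent.Lefpen.H718.Frame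
open Groth.Agent.Sga5 Groth.Agent.Lefpen.H397.ConePt Groth.Agent.Lefpen.H397.ConeField Groth.Agent.Ega4dA.GenSec
open Groth.Agent.Lefpen.H397.TwistGen Groth.Agent.Smoothlim.PowSec

variable {k : Type u} [Field k] {N d : ℕ} {a : Fin d → ℕ} (G : ∀ j : Fin d, Form N k (a j))

theorem isUnit_coord (i j : Fin (N + 1)) {V : (Y G).Opens} (hi : V ≤ ychart G i) (hj : V ≤ ychart G j) :
    IsUnit (resO _ hj (toY G j (ProjChart.dehom N k j (X i)))) := by
  have h1 := tY_rel G i j hi hj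
  obtain ⟨b, hb⟩ := IsGen.exists_unit ((isGen_tY G j).mono hj) ((isGen_tY G i).mono hi)
  rw [h1] at hb
  have h2 := ((isGen_tY G j).mono hj).injective' hb
  rw [← h2]
  exact b.isUnit

/-- The relation between the units comparing the trivializations. -/
theorem unit_rel {F L : (Y G).Modules} {c m : ℕ} {t : ∀ j, Γ(F, ychart G j)} (ht : ∀ j, IsGen F (ychart G j) (t j))
    (hrel : ∀ (i j : Fin (N + 1)) (V : (Y G).Opens) (hi : V ≤ ychart G i) (hj : V ≤ ychart G j),
      res F hi (t i) = resO _ hj (toY G j (ProjChart.dehom N k j (X i))) ^ c • res F hj (t j))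
    (φ : CohB1.tensorPow L m ⟶ F) {V W : (Y G).Opens} {i j : Fin (N + 1)} (hV : V ≤ ychart G i) (hW : W ≤ ychart G j)
    {e : Γ(L, V)} {e' : Γ(L, W)} {u : Γ(Y G, V)} {u' : Γ(Y G, W)} {b : Γ(Y G, V ⊓ W)}
    (hu : u • res F hV (t i) = φ.app _ (powSec e m)) (hu' : u' • res F hW (t j) = φ.app _ (powSec e' m))
    (hb : b • res L inf_le_right e' = res L inf_le_left e) :
    resO _ (inf_le_left : V ⊓ W ≤ V) u *
      resO _ (inf_le_right.trans hW : V ⊓ W ≤ _) (toY G j (ProjChart.dehom N k j (X i))) ^ c =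
        b ^ m * resO _ (inf_le_right : V ⊓ W ≤ W) u' := by
  refine (ht j).injective (inf_le_right.trans hW : V ⊓ W ≤ _) ?_
  have h1 := congrArg (res F (inf_le_left : V ⊓ W ≤ V)) hu
  have h2 := congrArg (res F (inf_le_right : V ⊓ W ≤ W)) hu'
  rw [← app_res, res_powSec, ← hb, powSec_smul, Scheme.Modules.Hom.app_smul, res_smul, res_res] at h1
  rw [← app_res, res_powSec, res_smul, res_res] at h2
  rw [← h2, hrel i j _ (inf_le_left.trans hV) (inf_le_right.trans hW), ← mul_smul, ← mul_smul] at h1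
  exact h1

theorem main (K : Type u) [Field K] [Algebra (AG G) K] [IsDomain (AG G)] [IsFractionRing (AG G) K]
    [IsIntegrallyClosed (AG G)] (hh : ∀ i, ((G i).1).IsHomogeneous (a i)) (hirr : (irr (fun i => (G i).1)).IsMaximal)
    (hne : ∃ j, T G j ≠ 0) (m : ℕ) (hm : 1 ≤ m)
    (hroot : ∀ (f : A (fun i => (G i).1)) (D : ℕ), Homog (fun i => (G i).1) hh D f → f ≠ 0 →
      LocPow (fun i => (G i).1) m f → ∃ (e : ℕ) (w : A (fun i => (G i).1)),
        Homog (fun i => (G i).1) hh e w ∧ m * e = D ∧ f = w ^ m)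
    (F : (Y G).Modules) (c : ℕ) (t : ∀ j, Γ(F, ychart G j)) (ht : ∀ j, IsGen F (ychart G j) (t j))
    (hrel : ∀ (i j : Fin (N + 1)) (V : (Y G).Opens) (hi : V ≤ ychart G i) (hj : V ≤ ychart G j),
      res F hi (t i) = resO _ hj (toY G j (ProjChart.dehom N k j (X i))) ^ c • res F hj (t j))
    (L : (Y G).Modules) (hL : PicF.IsInvertible L) (φ : CohB1.tensorPow L m ≅ F) :
    ∃ e E : ℕ, m * e = m * E + c ∧ (c = 0 → Nonempty (L ≅ Coh.structureModule (Y G))) := by
  rw [isInvertible_iff] at hL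
  -- local generators on basic opens of charts
  have h1 : ∀ y : Y G, ∃ (j : Fin (N + 1)) (_ : T G j ≠ 0) (s : Γ(Y G, ychart G j)), s ≠ 0 ∧
      y ∈ (Y G).basicOpen s ∧ ∃ e : Γ(L, (Y G).basicOpen s), IsGen L _ e := by
    intro y
    obtain ⟨U, hyU, e, he⟩ := hL y
    obtain ⟨j, hj, s, hs, hys, hsU⟩ := exists_basic G y U hyU
    exact ⟨j, hj, s, hs, hys, _, he.mono hsU⟩
  choose j hj s hs hys e he using h1
  have hWc : ∀ y, (Y G).basicOpen (s y) ≤ ychart G (j y) := fun y => (Y G).basicOpen_le (s y)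
  have hW : ∀ y, ⊤ ≤ (eta G K hne) ⁻¹ᵁ ((Y G).basicOpen (s y)) := fun y => top_le_basicOpen G K hne (hj y) (hs y)
  have hWW : ∀ y z, ⊤ ≤ (eta G K hne) ⁻¹ᵁ ((Y G).basicOpen (s y) ⊓ (Y G).basicOpen (s z)) := fun y z p hp =>
    ⟨hW y hp, hW z hp⟩
  -- units `u`
  have h2 : ∀ y, ∃ u : Γ(Y G, (Y G).basicOpen (s y))ˣ, u.1 • res F (hWc y) (t (j y)) =
      φ.hom.app _ (powSec (e y) m) := fun y =>
    IsGen.exists_unit ((ht (j y)).mono (hWc y)) ((isGen_powSec (he y) m).app φ.hom)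
  choose u hu using h2
  -- transition functions
  have h3 : ∀ y z, ∃ b : Γ(Y G, (Y G).basicOpen (s y) ⊓ (Y G).basicOpen (s z))ˣ,
      b.1 • res L inf_le_right (e z) = res L inf_le_left (e y) := fun y z =>
    IsGen.exists_unit ((he z).mono inf_le_right) ((he y).mono inf_le_left)
  choose b hb using h3
  -- the relation in `K`
  have h4 : ∀ y z, rhoK G K hne _ (hW y) (u y).1 * incl G K (T G (j y)) ^ c =
      rhoK G K hne _ (hWW y z) (b y z).1 ^ m * (rhoK G K hne _ (hW z) (u z).1 * incl G K (T G (j z)) ^ c) := by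
    intro y z
    have e1 := unit_rel G ht hrel φ.hom (hWc y) (hWc z) (hu y) (hu z) (hb y z)
    have e2 := congrArg (rhoK G K hne _ (hWW y z)) e1
    rw [map_mul, map_pow, map_mul, map_pow, rhoK_res G K hne (hW y) (hWW y z), rhoK_res G K hne (hW z) (hWW y z),
      rhoK_res G K hne (top_le_ychart G K hne (hj z)) (hWW y z)] at e2
    have e3 := rhoK_form G K hne (hj z) (isHomogeneous_X k (j y))
    rw [pow_one] at e3
    rw [← mul_assoc, ← e2, mul_assoc, ← mul_pow, e3]
  have h5 : ∀ y z l, rhoK G K hne _ (hWW y l) (b y l).1 =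
      rhoK G K hne _ (hWW y z) (b y z).1 * rhoK G K hne _ (hWW z l) (b z l).1 := by
    intro y z l
    have hT : ⊤ ≤ (eta G K hne) ⁻¹ᵁ ((Y G).basicOpen (s y) ⊓ (Y G).basicOpen (s z) ⊓ (Y G).basicOpen (s l)) :=
      fun p hp => ⟨⟨hW y hp, hW z hp⟩, hW l hp⟩
    have e1 : (Y G).basicOpen (s y) ⊓ (Y G).basicOpen (s z) ⊓ (Y G).basicOpen (s l) ≤
        (Y G).basicOpen (s y) ⊓ (Y G).basicOpen (s l) := le_inf (inf_le_left.trans inf_le_left) inf_le_right
    have e2 : (Y G).basicOpen (s y) ⊓ (Y G).basicOpen (s z) ⊓ (Y G).basicOpen (s l) ≤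
        (Y G).basicOpen (s y) ⊓ (Y G).basicOpen (s z) := inf_le_left
    have e3 : (Y G).basicOpen (s y) ⊓ (Y G).basicOpen (s z) ⊓ (Y G).basicOpen (s l) ≤
        (Y G).basicOpen (s z) ⊓ (Y G).basicOpen (s l) := le_inf (inf_le_left.trans inf_le_right) inf_le_right
    have e4 : (Y G).basicOpen (s y) ⊓ (Y G).basicOpen (s z) ⊓ (Y G).basicOpen (s l) ≤
        (Y G).basicOpen (s l) := inf_le_right
    have key : resO _ e1 (b y l).1 = resO _ e2 (b y z).1 * resO _ e3 (b z l).1 := by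
      refine (he l).injective e4 ?_
      have g1 := congrArg (res L e1) (hb y l)
      have g2 := congrArg (res L e2) (hb y z)
      have g3 := congrArg (res L e3) (hb z l)
      simp only [res_smul, res_res] at g1 g2 g3
      rw [mul_smul, g3, g2, g1]
    have := congrArg (rhoK G K hne _ hT) key
    rw [map_mul, rhoK_res G K hne (hWW y l) hT e1, rhoK_res G K hne (hWW y z) hT e2,
      rhoK_res G K hne (hWW z l) hT e3] at this
    exact this
  -- the base point
  obtain ⟨p0⟩ : Nonempty (Spec (CommRingCat.of K)) := inferInstance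
  obtain ⟨z0, -⟩ : ∃ z : Y G, z = eta G K hne p0 := ⟨_, rfl⟩
  obtain ⟨τ, hτ⟩ : ∃ τ : Y G → K, ∀ y, τ y = rhoK G K hne _ (hWW y z0) (b y z0).1 := ⟨_, fun _ => rfl⟩
  have hτ0 : ∀ y, τ y ≠ 0 := fun y => by
    rw [hτ]
    exact ((b y z0).isUnit.map (rhoK G K hne _ (hWW y z0))).ne_zero
  have huK0 : ∀ y, rhoK G K hne _ (hW y) (u y).1 ≠ 0 := fun y =>
    ((u y).isUnit.map (rhoK G K hne _ (hW y))).ne_zero
  obtain ⟨r, hr⟩ : ∃ r : K, r = rhoK G K hne _ (hW z0) (u z0).1 * incl G K (T G (j z0)) ^ c := ⟨_, rfl⟩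
  have hr0 : r ≠ 0 := by
    rw [hr]
    exact mul_ne_zero (huK0 z0) (pow_ne_zero _ (incl_ne_zero (hj z0)))
  have h6 : ∀ y, rhoK G K hne _ (hW y) (u y).1 * incl G K (T G (j y)) ^ c = τ y ^ m * r := by
    intro y
    rw [h4 y z0, hτ, hr]
  obtain ⟨E, P, Q, hP, hQ, hQ0, hPQ⟩ := deg_rhoK (hh := hh) hne _ (hW z0) (u z0).1
  obtain ⟨m', rfl⟩ : ∃ m', m = m' + 1 := ⟨m - 1, by omega⟩
  obtain ⟨f, hf⟩ : ∃ f : AG G, f = P * Q ^ m' * T G (j z0) ^ c := ⟨_, rfl⟩
  have hfK : incl G K f = r * incl G K Q ^ (m' + 1) := by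
    rw [hf, map_mul, map_mul, map_pow, map_pow, ← hPQ, hr]
    ring
  have hf0 : f ≠ 0 := by
    rintro rfl
    rw [map_zero] at hfK
    exact mul_ne_zero hr0 (pow_ne_zero _ (incl_ne_zero hQ0)) hfK.symm
  have hfd : Homog (fun i => (G i).1) hh ((m' + 1) * E + c) f := by
    rw [hf]
    have h7 := (hP.mul _ hh (hQ.pow _ hh m')).mul _ hh (homog_T_pow (G := G) (hh := hh) (j z0) c)
    rwa [show E + 0 + m' * E + c = (m' + 1) * E + c by ring] at h7
  have hloc : LocPow (fun i => (G i).1) (m' + 1) f := by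
    intro q hq hqi
    obtain ⟨i, hi⟩ : ∃ i, T G i ∉ q := by
      by_contra hcon
      push Not at hcon
      exact hqi (eq_irr _ q hirr hcon)
    obtain ⟨y, hyi, hy⟩ := exists_point G K hne q i hi
    obtain ⟨v, s', hv, hs', hvs⟩ := hy _ (hys y) (hW y) (u y).1 (u y).isUnit
    have hT : T G (j y) ∉ q := by
      have hi0 : T G i ≠ 0 := fun h0 => hi (by rw [h0]; exact q.zero_mem)
      have htop : ⊤ ≤ (eta G K hne) ⁻¹ᵁ (ychart G i ⊓ ychart G (j y)) := fun p hp =>
        ⟨top_le_ychart G K hne hi0 hp, top_le_ychart G K hne (hj y) hp⟩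
      obtain ⟨v', s'', hv', hs'', h'⟩ := hy (ychart G i ⊓ ychart G (j y)) ⟨hyi, hWc y (hys y)⟩ htop _
        (isUnit_coord G (j y) i inf_le_right inf_le_left)
      rw [rhoK_res G K hne (top_le_ychart G K hne hi0) htop] at h'
      have e3 := rhoK_form G K hne hi0 (isHomogeneous_X k (j y))
      rw [pow_one] at e3
      intro hmem
      have h8 : T G (j y) * s'' = v' * T G i := by
        apply IsFractionRing.injective (AG G) K
        rw [map_mul, map_mul, ← e3, ← h']
        ring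
      have h9 : v' * T G i ∈ q := by
        rw [← h8]
        exact q.mul_mem_right _ hmem
      exact (hq.mem_or_mem h9).elim hv' hi
    obtain ⟨α, β, hβ, hαβ⟩ := IsFractionRing.div_surjective (A := AG G) (τ y)
    have hβ0 : β ≠ 0 := nonZeroDivisors.ne_zero hβ
    have hα : incl G K α = τ y * incl G K β := by
      rw [← hαβ, div_mul_cancel₀ _ (incl_ne_zero hβ0)]
    have hα0 : α ≠ 0 := by
      rintro rfl
      rw [map_zero] at hα
      exact mul_ne_zero (hτ0 y) (incl_ne_zero hβ0) hα.symm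
    refine ⟨v * T G (j y) ^ c * s' ^ m', Q * β, α * s', ?_, ?_, ?_⟩
    · intro hmem
      rcases hq.mem_or_mem hmem with h10 | h10
      · rcases hq.mem_or_mem h10 with h11 | h11
        · exact hv h11
        · exact hT (hq.mem_of_pow_mem _ h11)
      · exact hs' (hq.mem_of_pow_mem _ h10)
    · refine mul_ne_zero hα0 ?_
      rintro rfl
      exact hs' q.zero_mem
    · apply IsFractionRing.injective (AG G) K
      have h12 := h6 y
      simp only [map_mul, map_pow]
      rw [hfK, hα, ← hvs]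
      linear_combination (incl G K Q ^ (m' + 1) * incl G K β ^ (m' + 1) * incl G K s' ^ (m' + 1)) * h12.symm
  obtain ⟨e', w, hw, hme, hfw⟩ := hroot f _ hfd hf0 hloc
  refine ⟨e', E, hme, ?_⟩
  rintro rfl
  have hEe : e' = E := by
    rw [add_zero] at hme
    exact Nat.eq_of_mul_eq_mul_left (Nat.succ_pos m') hme
  subst hEe
  obtain ⟨κ, hκ⟩ : ∃ κ : K, κ = incl G K w / incl G K Q := ⟨_, rfl⟩
  have hκQ : κ * incl G K Q = incl G K w := by
    rw [hκ, div_mul_cancel₀ _ (incl_ne_zero hQ0)]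
  have hκm : κ ^ (m' + 1) = r := by
    apply mul_right_cancel₀ (pow_ne_zero (m' + 1) (incl_ne_zero (K := K) hQ0))
    rw [← mul_pow, hκQ, ← hfK, hfw, map_pow]
  have hκ0 : κ ≠ 0 := by
    rintro rfl
    rw [zero_pow (Nat.succ_ne_zero m')] at hκm
    exact hr0 hκm.symm
  have hκd : Deg G hh 0 κ := ⟨e', w, Q, hw, hQ, hQ0, hκQ⟩
  have hz0 : ∀ y, κ * τ y ≠ 0 := fun y => mul_ne_zero hκ0 (hτ0 y)
  have hzd : ∀ y, Deg G hh 0 (κ * τ y) := fun y => by
    have h13 := hκd.mul (deg_rhoK (hh := hh) hne _ (hWW y z0) (b y z0).1)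
    rw [zero_add, ← hτ] at h13
    exact h13
  have hzm : ∀ y, (κ * τ y) ^ (m' + 1) = rhoK G K hne _ (hW y) (u y).1 := by
    intro y
    have h14 := h6 y
    rw [pow_zero, mul_one] at h14
    rw [mul_pow, hκm, h14, mul_comm]
  have hz1 : ∀ y, κ * τ y ∈ Set.range (rhoK G K hne _ (hW y)) := fun y =>
    mem_range_of_pow hne (hj y) (s y) (hW y) hm (hzd y) ⟨(u y).1, (hzm y).symm⟩
  have hz2 : ∀ y, (κ * τ y)⁻¹ ∈ Set.range (rhoK G K hne _ (hW y)) := fun y =>
    mem_range_of_pow hne (hj y) (s y) (hW y) hm ((hzd y).inv (hz0 y)) ⟨((u y)⁻¹).1, by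
      rw [inv_pow, hzm]
      apply eq_inv_of_mul_eq_one_left
      rw [← map_mul, Units.inv_mul, map_one]⟩
  choose β' hβ' using hz1
  choose β hβ using hz2
  have hβu : ∀ y, IsUnit (β y) := by
    intro y
    refine IsUnit.of_mul_eq_one (β' y) ?_
    apply rhoK_injective G K hne _ (hW y)
    rw [map_mul, hβ, hβ', inv_mul_cancel₀ (hz0 y), map_one]
  obtain ⟨σ, hσ⟩ := exists_glue L (U := ⊤) (fun y : Y G => (Y G).basicOpen (s y)) (fun y => le_top)
    (fun y _ => Opens.mem_iSup.mpr ⟨y, hys y⟩) (fun y => β y • e y) (by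
      intro y z
      have e1 : resO (Y G) inf_le_left (β y) * (b y z).1 = resO (Y G) inf_le_right (β z) := by
        apply rhoK_injective G K hne _ (hWW y z)
        rw [map_mul, rhoK_res G K hne (hW y) (hWW y z), rhoK_res G K hne (hW z) (hWW y z), hβ, hβ, hτ y, h5 y z z0,
          ← hτ z]
        have h15 : rhoK G K hne _ (hWW y z) (b y z).1 ≠ 0 :=
          ((b y z).isUnit.map (rhoK G K hne _ (hWW y z))).ne_zero
        have h16 := hτ0 z
        field_simp
      rw [res_smul, res_smul, ← e1, mul_smul, hb])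
  refine IsGen.nonempty_iso (s := σ) (isGen_of_cover fun y _ => ?_)
  refine ⟨(Y G).basicOpen (s y), le_top, hys y, ?_⟩
  rw [hσ y]
  exact (he y).smul (hβu y)

section Final

variable [IsAlgClosed k] {n : ℕ} (hh : ∀ i, ((G i).1).IsHomogeneous (a i))
  (hg : ∀ i, constantCoeff (G i).1 = 0) (hN : N = n + d) (hn : 2 ≤ n)
  [SmoothOfRelativeDimension n ((LefPen.ciIdeal G).subschemeι ≫ CohB1.ProjSpace.toSpec N k)] (m : ℕ)

include hg hN in
theorem exists_T_ne_zero [IsDomain (AG G)] : ∃ j, T G j ≠ 0 := by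
  by_contra hcon
  push Not at hcon
  have h1 := height_irr (fun i => (G i).1) hg (Groth.Agent.Lefpen.H718.JacCI.jacCond G hN) hN
  have h2 : irr (fun i => (G i).1) = ⊥ := by
    have := isMaximal_irr (fun i => (G i).1) hg
    refine (eq_irr (fun i => (G i).1) ⊥ this fun j => ?_).symm
    exact hcon j
  rw [h2, Ideal.height_bot] at h1
  exact absurd h1 (by norm_cast)

include hh hg hN hn

theorem pic_of_root (hm : 1 ≤ m)
    (hroot : ∀ (f : A (fun i => (G i).1)) (D : ℕ), Homog (fun i => (G i).1) hh D f → f ≠ 0 →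
      LocPow (fun i => (G i).1) m f → ∃ (e : ℕ) (w : A (fun i => (G i).1)),
        Homog (fun i => (G i).1) hh e w ∧ m * e = D ∧ f = w ^ m)
    (L : (LefPen.ciIdeal G).subscheme.Modules) (hL : PicF.IsInvertible L)
    (h : Nonempty (CohB1.tensorPow L m ≅ Coh.structureModule (LefPen.ciIdeal G).subscheme)) :
    Nonempty (L ≅ Coh.structureModule (LefPen.ciIdeal G).subscheme) := by
  obtain ⟨φ⟩ := h
  have hJ := Groth.Agent.Lefpen.H718.JacCI.jacCond G hN
  have hdom : IsDomain (AG G) := isDomain _ hh hg hJ hN (by omega)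
  have hcl : IsIntegrallyClosed (AG G) := isIntegrallyClosed _ hh hg hJ hN (by omega)
  obtain ⟨e, E, -, h1⟩ := main G (FractionRing (AG G)) hh (isMaximal_irr _ hg) (exists_T_ne_zero G hg hN) m hm hroot
    (Coh.structureModule (Y G)) 0 (fun j => oneSec (Y G) (ychart G j)) (fun j => isGen_oneSec _)
    (fun i j V hi hj => by rw [res_oneSec, res_oneSec, pow_zero, one_smul]) L hL φ
  exact h1 rfl

theorem not_of_root (hm : 2 ≤ m)
    (hroot : ∀ (f : A (fun i => (G i).1)) (D : ℕ), Homog (fun i => (G i).1) hh D f → f ≠ 0 →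
      LocPow (fun i => (G i).1) m f → ∃ (e : ℕ) (w : A (fun i => (G i).1)),
        Homog (fun i => (G i).1) hh e w ∧ m * e = D ∧ f = w ^ m)
    (M : (LefPen.ciIdeal G).subscheme.Modules) (hM : PicF.IsInvertible M) :
    ¬ Nonempty (CohB1.tensorPow M m ≅
      (Scheme.Modules.pullback (LefPen.ciIdeal G).subschemeι).obj (Twist.twistProjSpace N k 1)) := by
  rintro ⟨φ⟩
  have hJ := Groth.Agent.Lefpen.H718.JacCI.jacCond G hN
  have hdom : IsDomain (AG G) := isDomain _ hh hg hJ hN (by omega)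
  have hcl : IsIntegrallyClosed (AG G) := isIntegrallyClosed _ hh hg hJ hN (by omega)
  obtain ⟨e, E, h1, -⟩ := main G (FractionRing (AG G)) hh (isMaximal_irr _ hg) (exists_T_ne_zero G hg hN) m
    (by omega) hroot (OY1 G) 1 (tY G) (isGen_tY G)
    (fun i j V hi hj => by rw [pow_one]; exact tY_rel G i j hi hj) M hM φ
  have h2 : m ∣ 1 := (Nat.dvd_add_right (Dvd.intro E rfl)).1 (Dvd.intro e h1)
  have h3 := Nat.le_of_dvd Nat.one_pos h2
  omega

end Final

end Groth.Agent.Lefpen.H397.PicRoot
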