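import Groth.Agent.Lefpen.H397.ConeField
import Groth.Agent.Divis.ProjPic
import Groth.Agent.Fdesc.LocGenPullback

/-!
# The generators `T_j` of `O(1)` on the charts of a complete intersection

* `tP j`: the section `T_j` of `O(1)` over `D_+(T_j)`; `isGen_tP`, `tP_rel`.
* `tY j`: its restriction to `Y ∩ D_+(T_j)`; `isGen_tY`, `tY_rel`: `T_i = (T_i / T_j) T_j` on the overlaps.
-/

set_option autoImplicit false
set_option linter.unusedSectionVars false
universe u

open CategoryTheory AlgebraicGeometry Limits TopologicalSpace Opposite MvPolynomial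

namespace Groth.Agent.Lefpen.H397.TwistGen

open LefPen Groth.Agent.Lefpen.H705.ChartPoly Groth.Agent.Lefpen.H705.HypIdeal
open Groth.Agent.Lefpen.H718.ConeCM Groth.Agent.Lefpen.H718.Grade Groth.Agent.Lefpen.H718.Chart
open Groth.Agent.Sga5 Groth.Agent.Lefpen.H397.ConePt Groth.Agent.Lefpen.H397.ConeField Groth.Agent.Ega4dA.GenSec
open Groth.Agent.Divis.ProjPic

variable {k : Type u} [Field k] {N d : ℕ}

theorem one_notMem (x : ProjectiveSpectrum (CohB1.polyGrading N k)) : (1 : MvPolynomial (Fin (N + 1)) k) ∉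
    x.asHomogeneousIdeal := fun h => x.isPrime.ne_top ((Ideal.eq_top_iff_one _).mpr h)

/-- The section `T_j` of `O(1)` over `D_+(T_j)`. -/
noncomputable def tP (j : Fin (N + 1)) : Γ(Twist.twistProjSpace N k 1, chart N k j) :=
  frac (𝒜 := CohB1.polyGrading N k) (d := 1) (i := 1) (j := 0) (a := X j) (s := 1) (LefPen.X_mem N k j)
    SetLike.GradedOne.one_mem (by norm_num) (chart N k j) (fun x _ => one_notMem x)

theorem isGen_tP (j : Fin (N + 1)) : IsGen (Twist.twistProjSpace N k 1) (chart N k j) (tP j) :=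
  isGen_frac _ _ _ _ _ (fun _ hx => hx)

theorem evT_tP (j : Fin (N + 1)) (x : ProjectiveSpectrum (CohB1.polyGrading N k)) (hx : x ∈ chart N k j) :
    evT (d := 1) (U := chart N k j) (tP j) x hx = algebraMap _ _ (X j : MvPolynomial (Fin (N + 1)) k) :=
  (evT_frac _ _ _ _ _ _ _).trans (Localization.mk_one_eq_algebraMap _)

theorem ev_dehom (i j : Fin (N + 1)) (x : ProjectiveSpectrum (CohB1.polyGrading N k)) (hx : x ∈ chart N k j) :
    ev (𝒜 := CohB1.polyGrading N k) (U := chart N k j) (polyToChart j (ProjChart.dehom N k j (X i))) x hx *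
      algebraMap _ _ (X j : MvPolynomial (Fin (N + 1)) k) = algebraMap _ _ (X i : MvPolynomial (Fin (N + 1)) k) := by
  have hle : Submonoid.powers (X j : MvPolynomial (Fin (N + 1)) k) ≤
      x.asHomogeneousIdeal.toIdeal.primeCompl.comap (RingHom.id _) :=
    (Submonoid.powers_le (P := x.asHomogeneousIdeal.toIdeal.primeCompl)).mpr hx
  let μ : Localization.Away (X j : MvPolynomial (Fin (N + 1)) k) →+*
      Localization.AtPrime x.asHomogeneousIdeal.toIdeal :=
    IsLocalization.map (M := .powers (X j : MvPolynomial (Fin (N + 1)) k))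
      (T := x.asHomogeneousIdeal.toIdeal.primeCompl)
        (Localization.AtPrime x.asHomogeneousIdeal.toIdeal) (RingHom.id _) hle
  have h1 : ev (𝒜 := CohB1.polyGrading N k) (U := chart N k j) (polyToChart j (ProjChart.dehom N k j (X i))) x hx =
      μ (ProjChart.ofPoly N k j (ProjChart.dehom N k j (X i))).val :=
    ProjectiveSpectrum.Proj.awayToSection_apply (CohB1.polyGrading N k) (X j) _ ⟨x, hx⟩
  have hμ : ∀ p : MvPolynomial (Fin (N + 1)) k, μ (ProjChart.aM N k j p) = algebraMap _ _ p := fun p =>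
    IsLocalization.map_eq _ _
  have h2 := congrArg μ (ProjChart.val_ofPoly_dehom N k j 1 (X i) (isHomogeneous_X k i))
  rw [map_mul, pow_one, hμ, hμ] at h2
  exact (congrArg (· * _) h1).trans h2

theorem tP_rel (i j : Fin (N + 1)) {V : (CohB1.ProjSpace N k).Opens} (hi : V ≤ chart N k i) (hj : V ≤ chart N k j) :
    res (Twist.twistProjSpace N k 1) hi (tP i) =
      resO _ hj (polyToChart j (ProjChart.dehom N k j (X i))) • res (Twist.twistProjSpace N k 1) hj (tP j) := by
  refine evT_ext (𝒜 := CohB1.polyGrading N k) (d := 1) (U := V) fun x hx => ?_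
  have h1 := evT_smul (𝒜 := CohB1.polyGrading N k) (d := 1) (U := V)
    (resO _ hj (polyToChart j (ProjChart.dehom N k j (X i)))) (res (Twist.twistProjSpace N k 1) hj (tP j)) x hx
  refine Eq.trans ?_ h1.symm
  have h2 : evT (𝒜 := CohB1.polyGrading N k) (d := 1) (U := V) (res (Twist.twistProjSpace N k 1) hi (tP i)) x hx =
    algebraMap _ _ (X i : MvPolynomial (Fin (N + 1)) k) := evT_tP i x (hi hx)
  have h3 : evT (𝒜 := CohB1.polyGrading N k) (d := 1) (U := V) (res (Twist.twistProjSpace N k 1) hj (tP j)) x hx =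
    algebraMap _ _ (X j : MvPolynomial (Fin (N + 1)) k) := evT_tP j x (hj hx)
  refine h2.trans ((ev_dehom i j x (hj hx)).symm.trans ?_)
  exact congrArg (_ * ·) h3.symm

variable {a : Fin d → ℕ} (G : ∀ j : Fin d, Form N k (a j))

/-- The restriction of `O(1)` to `Y`. -/
noncomputable abbrev OY1 : (Y G).Modules := (Scheme.Modules.pullback (yι G)).obj (Twist.twistProjSpace N k 1)

/-- The section `T_j` of `O(1)` over `Y ∩ D_+(T_j)`. -/
noncomputable def tY (j : Fin (N + 1)) : Γ(OY1 G, ychart G j) :=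
  Fdesc.LocGen.pullSec (yι G) (tP j)

theorem isGen_tY (j : Fin (N + 1)) : IsGen (OY1 G) (ychart G j) (tY G j) := by
  have h1 : Fdesc.LocGen.IsGen (tP (k := k) (N := N) j) := isGen_tP j
  exact h1.pullSec (yι G)

theorem tY_rel (i j : Fin (N + 1)) {V : (Y G).Opens} (hi : V ≤ ychart G i) (hj : V ≤ ychart G j) :
    res (OY1 G) hi (tY G i) = resO _ hj (toY G j (ProjChart.dehom N k j (X i))) • res (OY1 G) hj (tY G j) := by
  have hV : V ≤ yι G ⁻¹ᵁ (chart N k i ⊓ chart N k j) := fun x hx => ⟨hi hx, hj hx⟩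
  have h1 := tP_rel (k := k) (N := N) i j (inf_le_left : chart N k i ⊓ chart N k j ≤ chart N k i) inf_le_right
  have h2 : res (OY1 G) hV (Fdesc.LocGen.pullSec (yι G) (res (Twist.twistProjSpace N k 1)
      (inf_le_left : chart N k i ⊓ chart N k j ≤ chart N k i) (tP i))) =
      res (OY1 G) hV (Fdesc.LocGen.pullSec (yι G) (resO _ inf_le_right
        (polyToChart j (ProjChart.dehom N k j (X i))) • res (Twist.twistProjSpace N k 1) inf_le_right (tP j))) :=
    congrArg (fun t => res (OY1 G) hV (Fdesc.LocGen.pullSec (yι G) t)) h1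
  rw [Fdesc.LocGen.pullSec_smul] at h2
  have e1 : Fdesc.LocGen.pullSec (yι G) (res (Twist.twistProjSpace N k 1)
      (inf_le_left : chart N k i ⊓ chart N k j ≤ chart N k i) (tP i)) =
      res (OY1 G) ((yι G).preimage_mono (inf_le_left : chart N k i ⊓ chart N k j ≤ chart N k i)) (tY G i) :=
    (Fdesc.LocGen.res_pullSec (yι G) (inf_le_left : chart N k i ⊓ chart N k j ≤ chart N k i) (tP i)).symm
  have e2 : Fdesc.LocGen.pullSec (yι G) (res (Twist.twistProjSpace N k 1)
      (inf_le_right : chart N k i ⊓ chart N k j ≤ chart N k j) (tP j)) =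
      res (OY1 G) ((yι G).preimage_mono (inf_le_right : chart N k i ⊓ chart N k j ≤ chart N k j)) (tY G j) :=
    (Fdesc.LocGen.res_pullSec (yι G) (inf_le_right : chart N k i ⊓ chart N k j ≤ chart N k j) (tP j)).symm
  rw [e1, e2, res_smul, res_res, res_res] at h2
  rw [h2]
  congr 1
  have h3 := (yι G).naturality (homOfLE (inf_le_right : chart N k i ⊓ chart N k j ≤ chart N k j)).op
  have h4 := congr($(h3).hom (polyToChart j (ProjChart.dehom N k j (X i))))
  have h5 := congrArg (resO (Y G) hV) h4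
  refine h5.trans ?_
  exact resO_resO _ _ _

end Groth.Agent.Lefpen.H397.TwistGen
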